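import Cfsg.Agent.Lib.Chev.Subfield.Rat
import Cfsg.Agent.Lib.Chev.Twist.Frob
import Cfsg.Agent.Lib.Chev.Twist.Gen
import Cfsg.Agent.Lib.Chev.Twist.SplitElem

/-!
Subfield points of twisted groups: orbit elements and cosets of stable parabolic subgroups.
-/

set_option autoImplicit false
set_option linter.style.haveILetI false
set_option maxRecDepth 100000

namespace CfsgLib.Chev.TwSub

open Cfsg.Lie Matrix CfsgLib.Chev CfsgLib.KnownB.ChevField

variable {D : ChevalleyDatum} {A : Aux} {F : Type*} [Field F] {h : Std D A} {f : Fold}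
  {τ : Twist F h f} {sgn : ℕ → ℤ} {σ : F →+* F}

/-- the entrywise action of a field endomorphism -/
noncomputable abbrev sG (σ : F →+* F) : GL D.Idx F →* GL D.Idx F := Matrix.GeneralLinearGroup.map σ

/-- a twist by the field endomorphism followed by a signed symmetry -/
structure Graph (τ : Twist F h f) (sgn : ℕ → ℤ) (σ : F →+* F) (d : ℕ) : Prop where
  phi : ∀ r < D.nroots, ∀ t, τ.phi r t = (sgn r : F) * σ t
  order : ∀ t, σ^[d] t = t

variable {d : ℕ}

theorem Graph.phi_fix (G : Graph τ sgn σ d) {r : ℕ} (hr : r < D.nroots) (he : sgn r = 1) (t : F) :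
    τ.phi r t = σ t := by rw [G.phi r hr, he]; simp

/-- the twist commutes with the field endomorphism -/
theorem maps_map (G : Graph τ sgn σ d) {y z : GL D.Idx F} (hm : τ.Maps y z) :
    τ.Maps (sG σ y) (sG σ z) := by
  obtain ⟨hy, hz⟩ := hm
  have g := h.good
  have key : ∀ y ∈ D.group F, ∀ z, τ.Maps y z → τ.Maps (sG σ y) (sG σ z) := by
    intro y hy
    rw [group_eq g] at hy
    induction hy using Subgroup.closure_induction with
    | mem y hy =>
      obtain ⟨r, t, hr, rfl⟩ := hy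
      intro z hz
      rw [← Twist.Maps.fun_eq τ (τ.maps_xG hr t) hz, map_xG, map_xG, G.phi r hr, map_mul, map_intCast,
        ← G.phi r hr]
      exact τ.maps_xG hr _
    | one =>
      intro z hz
      rw [← Twist.Maps.fun_eq τ τ.maps_one hz, map_one]
      exact τ.maps_one
    | mul a b ha hb iha ihb =>
      intro z hz
      rw [← group_eq g] at ha hb
      have m1 : τ.Maps a _ := ⟨ha, rfl⟩
      have m2 : τ.Maps b _ := ⟨hb, rfl⟩
      rw [← Twist.Maps.fun_eq τ (Twist.Maps.mul τ m1 m2) hz, map_mul, map_mul]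
      exact Twist.Maps.mul τ (iha _ m1) (ihb _ m2)
    | inv a ha iha =>
      intro z hz
      rw [← group_eq g] at ha
      have m1 : τ.Maps a _ := ⟨ha, rfl⟩
      rw [← Twist.Maps.fun_eq τ (Twist.Maps.inv τ m1) hz, map_inv, map_inv]
      exact Twist.Maps.inv τ (iha _ m1)
  exact key y hy z ⟨hy, hz⟩

theorem map_fix (G : Graph τ sgn σ d) {y : GL D.Idx F} (hy : y ∈ τ.fix) : sG σ y ∈ τ.fix :=
  maps_map G hy

/-- root elements of fixed roots -/
theorem xG_fix (G : Graph τ sgn σ d) {r : ℕ} (hr : r < D.nroots) (hfr : f.r r = r) (he : sgn r = 1)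
    {t : F} (ht : σ t = t) : xG h.good r t ∈ τ.fix := by
  have := τ.maps_xG hr t
  rw [hfr, G.phi_fix hr he, ht] at this
  exact this

theorem nW_map (g : Good D A) (σ : F →+* F) (w : List ℕ) : sG σ (nW F g w) = nW F g w :=
  Subfield.ratG_le_fixG g σ (Subfield.nW_mem_ratG g σ w)

/-! ### Orbit elements -/

/-- the element of an orbit of roots with signs -/
noncomputable def orbE (g : Good D A) (σ : F →+* F) : List (ℕ × ℤ) → F → GL D.Idx F
  | [], _ => 1
  | (r, s) :: o, t => xG g r ((s : F) * t) * orbE g σ o (σ t)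

theorem orbE_append (g : Good D A) : ∀ (o : List (ℕ × ℤ)) (r : ℕ) (s : ℤ) (t : F),
    orbE g σ (o ++ [(r, s)]) t = orbE g σ o t * xG g r ((s : F) * σ^[o.length] t)
  | [], r, s, t => by simp [orbE]
  | (x, a) :: o, r, s, t => by
    simp only [List.cons_append, orbE, orbE_append g o r s, List.length_cons, mul_assoc]
    rfl

theorem orbE_map (g : Good D A) : ∀ (o : List (ℕ × ℤ)) (t : F),
    sG σ (orbE g σ o t) = orbE g σ o (σ t)
  | [], t => by simp [orbE]
  | (r, s) :: o, t => by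
    simp only [orbE, map_mul, map_xG, orbE_map g o, map_intCast]

variable (f sgn) in
/-- the successor of a signed root -/
def step (c : ℕ × ℤ) : ℕ × ℤ := (f.r c.1, sgn c.1 * c.2)

theorem orbE_maps (G : Graph τ sgn σ d) : ∀ (o : List (ℕ × ℤ)) (t : F), (∀ c ∈ o, c.1 < D.nroots) →
    τ.Maps (orbE h.good σ o t) (orbE h.good σ (o.map (step f sgn)) (σ t))
  | [], t, _ => τ.maps_one
  | (r, s) :: o, t, hlt => by
    have hr := hlt _ List.mem_cons_self
    have h1 := τ.maps_xG hr ((s : F) * t)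
    rw [G.phi r hr, map_mul, map_intCast, ← mul_assoc, ← Int.cast_mul] at h1
    exact Twist.Maps.mul τ h1 (orbE_maps G o (σ t) fun c hc => hlt c (List.mem_cons_of_mem _ hc))

variable (D A f sgn) in
/-- a closed orbit of pairwise commuting roots -/
noncomputable def orbOK (d : ℕ) : List (ℕ × ℤ) → Bool
  | [] => false
  | c :: o => decide (o.length + 1 = d) && decide (∀ x ∈ c :: o, x.1 < D.nroots) &&
      decide ((c :: o).map (step f sgn) = o ++ [c]) &&
      decide ((c :: o).Pairwise fun x y => commPair D A x.1 y.1 = true)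

theorem orbE_commute (h : Std D A) {r : ℕ} {a : F} : ∀ (o : List (ℕ × ℤ)) (t : F),
    (∀ c ∈ o, commPair D A r c.1 = true) → Commute (xG h.good r a) (orbE h.good σ o t)
  | [], t, _ => Commute.one_right _
  | (x, s) :: o, t, hc => by
    simp only [orbE]
    exact (commute_xG h (hc _ List.mem_cons_self) _ _).mul_right
      (orbE_commute h o _ fun c hc' => hc c (List.mem_cons_of_mem _ hc'))

theorem orbE_fix (G : Graph τ sgn σ d) {o : List (ℕ × ℤ)} (ho : orbOK D A f sgn d o = true) (t : F) :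
    orbE h.good σ o t ∈ τ.fix := by
  cases o with
  | nil => simp [orbOK] at ho
  | cons c o =>
    obtain ⟨r, s⟩ := c
    simp only [orbOK, Bool.and_eq_true, decide_eq_true_eq] at ho
    obtain ⟨⟨⟨hlen, hlt⟩, hstep⟩, hpw⟩ := ho
    have hm := orbE_maps G ((r, s) :: o) t hlt
    rw [hstep, orbE_append, ← Function.iterate_succ_apply, Nat.succ_eq_add_one, hlen, G.order] at hm
    show τ.Maps _ _
    have hc := orbE_commute (σ := σ) (a := (s : F) * t) h o (σ t) (List.pairwise_cons.1 hpw).1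
    rw [← hc.eq] at hm
    exact hm

theorem orbE_add (h : Std D A) : ∀ (o : List (ℕ × ℤ)),
    (o.Pairwise fun x y => commPair D A x.1 y.1 = true) → ∀ t u : F,
      orbE h.good σ o t * orbE h.good σ o u = orbE h.good σ o (t + u)
  | [], _, t, u => by simp [orbE]
  | (r, s) :: o, hp, t, u => by
    obtain ⟨h1, h2⟩ := List.pairwise_cons.1 hp
    simp only [orbE]
    rw [map_add, ← orbE_add h o h2, mul_add, ← xG_add]
    have hc := orbE_commute (σ := σ) (a := (s : F) * u) h o (σ t) h1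
    calc xG h.good r ((s : F) * t) * orbE h.good σ o (σ t) * (xG h.good r ((s : F) * u) * orbE h.good σ o (σ u))
        = xG h.good r ((s : F) * t) * (orbE h.good σ o (σ t) * xG h.good r ((s : F) * u)) * orbE h.good σ o (σ u) := by
          group
      _ = _ := by rw [← hc.eq]; group

theorem orbE_zero (g : Good D A) : ∀ o : List (ℕ × ℤ), orbE g σ o 0 = 1
  | [] => rfl
  | (r, s) :: o => by simp [orbE, xG_zero, orbE_zero g o]

/-! ### Stable parabolic subgroups -/

theorem maps_parabolic {J : Set ℕ} (hJ : ∀ j ∈ J, j < D.rank → f.p j ∈ J) {y : GL D.Idx F}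
    (hy : y ∈ D.parabolicSubgroup F J) : ∃ z ∈ D.parabolicSubgroup F J, τ.Maps y z := by
  have g := h.good
  rw [parabolic_eq g, ← Subgroup.closure_eq (D.borelSubgroup F), ← Subgroup.closure_union] at hy
  induction hy using Subgroup.closure_induction with
  | one => exact ⟨1, one_mem _, τ.maps_one⟩
  | mul a b _ _ ha hb =>
    obtain ⟨x, hx, h1⟩ := ha
    obtain ⟨y, hy, h2⟩ := hb
    exact ⟨x * y, mul_mem hx hy, Twist.Maps.mul τ h1 h2⟩
  | inv a _ ha =>
    obtain ⟨x, hx, h1⟩ := ha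
    exact ⟨x⁻¹, inv_mem hx, Twist.Maps.inv τ h1⟩
  | mem a ha =>
    rcases ha with ha | ⟨j, hjJ, hj, rfl⟩
    · obtain ⟨z, hz, h1⟩ := τ.maps_borel ha
      exact ⟨z, borel_le_parabolic J hz, h1⟩
    · exact ⟨_, nS_mem_parabolic g (τ.valid.p_lt j hj) (hJ j hjJ hj), τ.maps_nS hj⟩

theorem map_parabolic (g : Good D A) (σ : F →+* F) {J : Set ℕ} {y : GL D.Idx F}
    (hy : y ∈ D.parabolicSubgroup F J) : sG σ y ∈ D.parabolicSubgroup F J := by
  rw [parabolic_eq g] at hy ⊢
  refine Subgroup.mem_comap.1 ((Subgroup.map_le_iff_le_comap (f := sG σ)).1 ?_ hy)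
  rw [Subgroup.map_sup, MonoidHom.map_closure]
  refine sup_le (le_trans ?_ le_sup_left) (le_trans ((Subgroup.closure_le _).2 ?_) le_sup_right)
  · rintro _ ⟨z, hz, rfl⟩
    obtain ⟨z1, hz1, z2, rfl⟩ := (mem_borel_iff g).1 hz
    rw [map_mul, map_tor]
    refine mul_mem (pos_le_borel ?_) (tor_mem_borel g _)
    rw [posUnipotent_eq g] at hz1 ⊢
    exact UP_map_le g σ _ ⟨z1, hz1, rfl⟩
  · rintro _ ⟨_, ⟨j, hjJ, hj, rfl⟩, rfl⟩
    exact Subgroup.subset_closure ⟨j, hjJ, hj, map_nS g σ j⟩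

theorem orbit_subset {J : Set ℕ} (hJ : ∀ j ∈ J, j < D.rank → f.p j ∈ J) (v : f.Valid D A) {j i : ℕ}
    (hj : j < f.num) (hi : i ∈ f.J j) (hiJ : i ∈ J) : ∀ k ∈ f.J j, k ∈ J := by
  intro k hk
  obtain ⟨e, rfl⟩ := v.J_orbit j hj i hi k hk
  clear hk
  have : ∀ e, f.pIter e i < D.rank ∧ f.pIter e i ∈ J := by
    intro e
    induction e with
    | zero => exact ⟨v.J_lt j hj i hi, hiJ⟩
    | succ e ih => exact ⟨v.p_lt _ ih.1, hJ _ ih.2 ih.1⟩
  exact (this e).2

/-- a representative of least length of the coset of a fixed point -/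
theorem exists_min_rep {T : List FState} (hT : FTabOK D A f T) {J : Set ℕ}
    (hJ : ∀ j ∈ J, j < D.rank → f.p j ∈ J) {y : GL D.Idx F} (hy : y ∈ τ.fix) :
    ∃ u ∈ D.posUnipotent F ⊓ τ.fix, ∃ l : List ℕ, (∀ j ∈ l, j < f.num) ∧
      (nW F h.good (f.flat l))⁻¹ * u⁻¹ * y ∈ D.parabolicSubgroup F J ∧
      ∀ j ∈ J, j < D.rank → D.IsPosRoot (wf A (f.flat l) (D.simple j)) := by
  classical
  have g := h.good
  let Q : ℕ → Prop := fun c => ∃ u ∈ D.posUnipotent F ⊓ τ.fix, ∃ l : List ℕ, (∀ j ∈ l, j < f.num) ∧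
      (nW F g (f.flat l))⁻¹ * u⁻¹ * y ∈ D.parabolicSubgroup F J ∧ nInv D A (f.flat l) = c
  have hQ : ∃ c, Q c := by
    obtain ⟨u, hu, t, ht, e, he, v, hv, rfl⟩ := τ.fix_decomp hT hy
    refine ⟨_, u, hu, e.word, hT.letters e he, ?_, rfl⟩
    obtain ⟨c, hc⟩ : ∃ c, tor D A c = t := by
      have := ht.1
      rw [SetLike.mem_coe, diagonalSubgroup_eq g] at this
      exact this
    have hWl := τ.valid.flat_letters (hT.letters e he)
    obtain ⟨c', hc'⟩ := monomial_conj_tor g (inv_mem (nW_mem (F := F) g hWl)) c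
    rw [inv_inv] at hc'
    rw [show (nW F g (f.flat e.word))⁻¹ * u⁻¹ * (u * t * nW F g (f.flat e.word) * v) =
      ((nW F g (f.flat e.word))⁻¹ * t * nW F g (f.flat e.word)) * v by group, ← hc, hc']
    exact borel_le_parabolic J (mul_mem (tor_mem_borel g c') (pos_le_borel (τ.V_le_pos _ hv).1))
  obtain ⟨u, hu, l, hl, hP, hc⟩ := Nat.find_spec hQ
  refine ⟨u, hu, l, hl, hP, fun i hiJ hi => ?_⟩
  by_contra hneg
  obtain ⟨j, hj, hij⟩ := τ.valid.cover i hi
  have hl' : ∀ k ∈ l ++ [j], k < f.num := fun k hk => by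
    rcases List.mem_append.1 hk with hk | hk
    · exact hl k hk
    · rw [List.mem_singleton.1 hk]; exact hj
  have hflat : f.flat (l ++ [j]) = f.flat l ++ f.w j := by simp [Fold.flat]
  have hJw : nW F g (f.w j) ∈ D.parabolicSubgroup F J := by
    have := orbit_subset hJ τ.valid hj hij hiJ
    refine list_prod_mem fun z hz => ?_
    obtain ⟨k, hk, rfl⟩ := List.mem_map.1 hz
    exact nS_mem_parabolic g (τ.valid.letters hj k hk) (this k (τ.valid.w_mem j hj k hk))
  have hlt : nInv D A (f.flat (l ++ [j])) < nInv D A (f.flat l) := by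
    have h1 := Fold.Valid.nInv_descent g τ.valid (τ.valid.flat_letters hl)
      (fun s hs => Fold.Valid.flat_comm g τ.valid hl hs) hj hij hneg
    have h2 := Fold.Valid.nInv_orbit_pos g τ.valid hj
    rw [hflat]; omega
  rw [hc] at hlt
  refine Nat.find_min hQ hlt ⟨u, hu, l ++ [j], hl', ?_, rfl⟩
  rw [hflat, show nW F g (f.flat l ++ f.w j) = nW F g (f.flat l) * nW F g (f.w j) by simp [nW],
    show (nW F g (f.flat l) * nW F g (f.w j))⁻¹ * u⁻¹ * y =
      (nW F g (f.w j))⁻¹ * ((nW F g (f.flat l))⁻¹ * u⁻¹ * y) by group]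
  exact mul_mem (inv_mem hJw) hP

/-- cosets stable under both endomorphisms contain common fixed points -/
theorem fixed_coset (G : Graph τ sgn σ d) {T : List FState} (hT : FTabOK D A f T) {J : Set ℕ}
    (hJ : ∀ j ∈ J, j < D.rank → f.p j ∈ J) {y : GL D.Idx F} (hy : y ∈ τ.fix)
    (hσy : y⁻¹ * sG σ y ∈ D.parabolicSubgroup F J) :
    ∃ m ∈ τ.fix, sG σ m = m ∧ m⁻¹ * y ∈ D.parabolicSubgroup F J := by
  classical
  have g := h.good
  obtain ⟨u0, hu0, l, hl, hP, hJpos⟩ := exists_min_rep hT hJ hy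
  set w := f.flat l with hwdef
  have hw : Letters D w := τ.valid.flat_letters hl
  have hwc : ∀ s < D.nroots, wf A w (f.r s) = f.r (wf A w s) := fun s hs =>
    Fold.Valid.flat_comm g τ.valid hl hs
  set n := nW F g w with hn
  have hnN : n ∈ D.monomialSubgroup F := nW_mem g hw
  obtain ⟨τ', hτ'⟩ := exists_acts g (inv_mem hnN)
  have hid : Acts g (1 : GL D.Idx F) id := by simpa using acts_tor (F := F) g 1
  have hinv : ∀ r < D.nroots, wf A w (τ' r) = r := fun r hr => by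
    have h1 := (nW_acts (F := F) g hw).mul hτ'
    rw [mul_inv_cancel] at h1
    exact h1.unique hid hr
  have hinv' : ∀ r < D.nroots, τ' (wf A w r) = r := fun r hr => by
    have h1 := hτ'.mul (nW_acts (F := F) g hw)
    rw [inv_mul_cancel] at h1
    exact h1.unique hid hr
  have hτc : ∀ r < D.nroots, τ' (f.r r) = f.r (τ' r) := fun r hr => by
    have hl1 := hτ'.map.1 r hr
    rw [← hinv' (f.r (τ' r)) (τ.valid.r_lt _ hl1), hwc _ hl1, hinv r hr]
  have hu0' : u0⁻¹ ∈ UL F g D.posRoots := by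
    rw [UL_posRoots g]; exact inv_mem hu0.1
  obtain ⟨a0, ha0, q0, hq0, epq⟩ := pos_split h τ' hτ'.map.1 upList_posRoots hu0'
  -- the two factors are fixed
  have hq0fix : q0 ∈ τ.fix := by
    obtain ⟨q1, hq1, hm1⟩ := τ.maps_UP (Q := toNeg D τ') (fun r hr => hr.1.1)
      (fun r hr => τ.toNeg_r (fun s hs => hτ'.map.1 s hs) hτc hr) hq0
    obtain ⟨a1, ha1, hm2⟩ := τ.maps_UP (Q := fun r => D.IsPosRoot r ∧ D.IsPosRoot (τ' r))
      (fun r hr => hr.1.1) (fun r hr => ⟨τ.valid.r_pos r hr.1, by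
        rw [hτc r hr.1.1]; exact τ.valid.r_pos _ hr.2⟩) ha0
    have he : a0 * q0 = a1 * q1 := by
      refine Twist.Maps.fun_eq τ ?_ (Twist.Maps.mul τ hm2 hm1)
      rw [← epq]; exact Twist.Maps.inv τ hu0.2
    have h1 : n⁻¹ * (q1 * q0⁻¹) * (n⁻¹)⁻¹ ∈ D.negUnipotent F :=
      conj_UP_le hτ' (fun r hr => hr.1.1) (fun r t hr => xG_mem_negUnipotent g hr.2 t) (mul_mem hq1 (inv_mem hq0))
    have h2 : n⁻¹ * (q1 * q0⁻¹) * (n⁻¹)⁻¹ ∈ D.borelSubgroup F := by
      rw [show q1 * q0⁻¹ = a1⁻¹ * a0 by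
        calc q1 * q0⁻¹ = a1⁻¹ * (a1 * q1) * q0⁻¹ := by group
          _ = _ := by rw [← he]; group]
      exact conj_UP_le hτ' (fun r hr => hr.1.1) (fun r t hr => xG_mem_borel g hr.2 t) (mul_mem (inv_mem ha1) ha0)
    have h3 : n⁻¹ * (q1 * q0⁻¹) * (n⁻¹)⁻¹ = 1 := by
      rw [← Subgroup.mem_bot, ← borel_inf_negUnipotent h]; exact ⟨h2, h1⟩
    have h4 : q1 = q0 := by
      rw [conj_eq_one_iff] at h3
      exact mul_inv_eq_one.1 h3
    rw [h4] at hm1
    exact hm1
  have ha0' : n⁻¹ * a0 * (n⁻¹)⁻¹ ∈ D.borelSubgroup F :=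
    conj_UP_le hτ' (fun r hr => hr.1.1) (fun r t hr => xG_mem_borel g hr.2 t) ha0
  have hP' : n⁻¹ * q0 * y ∈ D.parabolicSubgroup F J := by
    have h1 := mul_mem (borel_le_parabolic J (inv_mem ha0')) hP
    rwa [show (n⁻¹ * a0 * (n⁻¹)⁻¹)⁻¹ * (n⁻¹ * u0⁻¹ * y) = n⁻¹ * q0 * y by rw [epq]; group] at h1
  have hnσ : sG σ n = n := nW_map g σ w
  have hσq : sG σ q0 = q0 := by
    have hmem : q0 * (sG σ q0)⁻¹ ∈ UP F g (toNeg D τ') :=
      mul_mem hq0 (inv_mem (UP_map_le g σ (toNeg D τ') ⟨q0, hq0, rfl⟩))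
    have hz : n⁻¹ * (q0 * (sG σ q0)⁻¹) * (n⁻¹)⁻¹ ∈
        UP F g (fun r => r < D.nroots ∧ D.IsNegRoot r ∧ ∃ l < D.rank, l ∉ J ∧ A.a r l ≠ 0) := by
      refine conj_UP_le hτ' (fun r hr => hr.1.1) (fun r t hr => xG_mem_UP g
        (P := fun r => r < D.nroots ∧ D.IsNegRoot r ∧ ∃ l < D.rank, l ∉ J ∧ A.a r l ≠ 0) ?_ t) hmem
      have hlt := hτ'.map.1 r hr.1.1
      refine ⟨hlt, hr.2, ?_⟩
      by_contra hall
      push Not at hall
      have hn0 := g.neg_lt _ hlt
      have hp : D.IsPosRoot (A.neg (τ' r)) :=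
        (pos_or_pos_neg g hlt).resolve_left (not_pos_of_isNeg g hr.2)
      have hpos : D.IsPosRoot (wf A w (A.neg (τ' r))) := by
        refine (g.pos_iff _ (wf_lt g hw hn0)).2 fun k => ?_
        by_cases hk : k < D.rank
        · rw [simple_eq_sum g (wf_rootMap g hw) hn0 k hk]
          refine Finset.sum_nonneg fun i hi => ?_
          have hi' := Finset.mem_range.1 hi
          by_cases hiJ : i ∈ J
          · exact mul_nonneg ((g.pos_iff _ hn0).1 hp i) ((g.pos_iff _ (hJpos i hiJ hi').1).1 (hJpos i hiJ hi') k)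
          · rw [g.a_neg _ hlt, hall i hi' hiJ]; simp
        · rw [g.a_zero _ (wf_lt g hw hn0) k (not_lt.1 hk)]
      rw [(wf_rootMap g hw).map_neg g hlt, hinv r hr.1.1] at hpos
      exact not_pos_neg g hr.1 hpos
    have hz1 := Subfield.negOut_inf_parabolic h (fun r hr => hr) hz (by
      rw [show n⁻¹ * (q0 * (sG σ q0)⁻¹) * (n⁻¹)⁻¹ =
        (n⁻¹ * q0 * y) * (y⁻¹ * sG σ y) * (sG σ (n⁻¹ * q0 * y))⁻¹ by
        rw [map_mul, map_mul, map_inv, hnσ]; group]
      exact mul_mem (mul_mem hP' hσy) (inv_mem (map_parabolic g σ hP')))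
    rw [conj_eq_one_iff] at hz1
    exact (mul_inv_eq_one.1 hz1).symm
  refine ⟨q0⁻¹ * n, mul_mem (inv_mem hq0fix) (τ.nFlat_fix hl), by rw [map_mul, map_inv, hσq, hnσ], ?_⟩
  rw [_root_.mul_inv_rev, inv_inv]
  exact hP'

end CfsgLib.Chev.TwSub
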