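import Cfsg.Agent.Lib.Chev.TwSub.Main
import Cfsg.Agent.Lib.Chev.Twist.Fam.D4

/-!
Subfield points of the twisted groups of type D4: maximality.
-/

set_option autoImplicit false
set_option linter.style.haveILetI false
set_option maxRecDepth 100000

namespace CfsgLib.Chev.TwSub.D4

open Cfsg.Lie Matrix CfsgLib.Chev CfsgLib.KnownB.ChevField

/-- the tables -/
def data : TData where
  certs := [⟨12, [(1, [(14, 1)], 15, 0)]⟩,
  ⟨13, [(1, [(14, 1)], 16, 0)]⟩,
  ⟨14, [(-1, [(22, 1)], 23, 1)]⟩,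
  ⟨18, [(1, [(14, 1)], 19, 0)]⟩,
  ⟨15, [(-1, [(12, 1), (18, 1), (13, 1)], 17, 0), (-1, [(12, 1), (18, 1), (13, 1)], 20, 0), (1, [(17, 1), (20, -1), (21, -1)], 23, 1)]⟩,
  ⟨16, [(1, [(12, 1), (18, 1), (13, 1)], 20, 0), (-1, [(17, 1), (20, -1), (21, -1)], 23, 1)]⟩,
  ⟨19, [(1, [(17, 1), (20, -1), (21, -1)], 23, 1), (-1, [(12, 1), (18, 1), (13, 1)], 17, 0)]⟩]
  late := [⟨22, [(1, [(14, 1)], 23, 1)]⟩]
  O := [(17, 1), (20, -1), (21, -1)]
  marks := [[(18, 1), (13, 1), (12, 1)], [(13, 1), (12, 1), (18, 1)], [(12, 1), (18, 1), (13, 1)], [(14, 1)]]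
  shrink := [22]
  words := [[1, 0], [0]]
  lev := [(18, 1), (13, 1), (12, 1)]
  wit := [(18, 1), (13, 1), (12, 1)]

theorem data_ok : data.OK chevD4 auxD4 foldD43 symD4a.e 3 where
  u := by decide +kernel
  lift := by decide +kernel
  long := Subfield.longFacts_of_check Subfield.long_D4
  facts := Subfield.topFacts_of_check (by decide +kernel)
  full := by decide +kernel
  θfix := by decide +kernel
  mark := by decide +kernel
  shrink := by decide +kernel
  stable := by decide +kernel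
  refl := by decide +kernel
  comm := by decide +kernel
  sym := by decide +kernel
  opp := by decide +kernel

theorem sgn_fixed : ∀ r < chevD4.nroots, foldD43.r r = r → symD4a.e r = 1 := by decide +kernel

/-- the orbit of the fundamental roots -/
def orbA : List (ℕ × ℤ) := [(18, 1), (13, 1), (12, 1)]

/-- the orbit of the next height -/
def orbB : List (ℕ × ℤ) := [(19, 1), (16, -1), (15, -1)]

/-- the orbit of negative fundamental roots -/
def orbN : List (ℕ × ℤ) := [(d4m1, 1), (d4m3, 1), (d4m4, 1)]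

theorem orbs_ok : orbOK chevD4 auxD4 foldD43 symD4a.e 3 data.O = true ∧
    scaleOK chevD4 auxD4 foldD43 data.O = true ∧
    orbOK chevD4 auxD4 foldD43 symD4a.e 3 orbA = true ∧
    orbOK chevD4 auxD4 foldD43 symD4a.e 3 orbB = true ∧
    orbOK chevD4 auxD4 foldD43 symD4a.e 3 orbN = true ∧
    transferOK chevD4 auxD4 foldD43 data.O orbA [0, 1] = true ∧
    transferOK chevD4 auxD4 foldD43 orbA orbB [0] = true ∧
    transferOK chevD4 auxD4 foldD43 data.O orbN [1, 0, 1] = true := by decide +kernel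

theorem para : Para chevD4 auxD4 := ⟨stdD4, by decide +kernel, by decide +kernel⟩

variable {K : Type*} [Field K] {σ : K →+* K} {H : Subgroup (GL chevD4.Idx K)}

set_option synthInstance.maxSize 1024 in
theorem comm_data : auxD4.terms 14 18 = [(19, 1, 1, 1)] ∧ auxD4.terms 14 13 = [(16, -1, 1, 1)] ∧
    auxD4.terms 14 12 = [(15, -1, 1, 1)] ∧ auxD4.terms 13 19 = [(21, 1, 1, 1)] ∧
    auxD4.terms 12 19 = [(20, 1, 1, 1)] ∧ auxD4.terms 12 16 = [(17, 1, 1, 1)] ∧
    auxD4.terms 12 21 = [(22, 1, 1, 1)] ∧ auxD4.terms 16 20 = [(23, -1, 1, 1)] ∧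
    auxD4.terms 15 21 = [(23, -1, 1, 1)] ∧
    (∀ p ∈ [(14, 18), (14, 13), (14, 12), (13, 19), (12, 19), (12, 16), (12, 21), (16, 20), (15, 21)],
      p.1 < chevD4.nroots ∧ p.2 < chevD4.nroots ∧ p.2 ≠ p.1 ∧ p.2 ≠ auxD4.neg p.1) := by decide +kernel

set_option maxHeartbeats 800000 in
/-- the commutator closing the parameters under the norm of the conjugates -/
theorem quad (hG : Graph (D43.tw σ) symD4a.e σ 3) (h3 : ∀ x, σ (σ (σ x)) = x)
    (C : Ctx (D43.tw σ) symD4a.e σ 3 ftabD43 H) (t : K)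
    (ht : orbE stdD4.good σ data.O t ∈ H) : orbE stdD4.good σ data.O (σ t * σ (σ t)) ∈ H := by
  have h := stdD4
  have g := h.good
  obtain ⟨-, -, hA, hB, -, hOA, hAB, -⟩ := orbs_ok
  have hEA := transfer C hOA hA ht
  have hEB := transfer C hAB hB hEA
  obtain ⟨t1, t2, t3, t4, t5, t6, t7, t8, t9, hne⟩ := comm_data
  have sw : ∀ r s, (r, s) ∈ [(14, 18), (14, 13), (14, 12), (13, 19), (12, 19), (12, 16), (12, 21), (16, 20), (15, 21)] →
      ∀ u c, auxD4.terms r s = [(u, c, 1, 1)] → ∀ a b : K,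
        xG g s b * xG g r a = xG g r a * xG g s b * xG g u ((c : K) * -a * b) := by
    intro r s hm u c hT a b
    obtain ⟨h1, h2, h3, h4⟩ := hne _ hm
    rw [Subfield.comm_eq h h1 h2 h3 h4 a b]
    simp [tword, hT]
  have hfixed : ∀ r, r ∈ [14, 22, 23] → ∀ b : K, σ b = b → xG g r b ∈ H := by
    intro r hr b hb
    have : ∀ r ∈ [14, 22, 23], r < chevD4.nroots ∧ foldD43.r r = r := by decide +kernel
    obtain ⟨h1, h2⟩ := this r hr
    exact C.mem _ (xG_fix hG h1 h2 (sgn_fixed r h1 h2) hb) (by rw [map_xG, hb])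
  set a := t
  set b := σ t
  set c := σ (σ t)
  have cp : ∀ r s, commPair chevD4 auxD4 r s = true → ∀ x y : K, Commute (xG g r x) (xG g s y) :=
    fun r s e x y => commute_xG h e x y
  have cps : ∀ q ∈ [(21, 16), (21, 20), (20, 17), (21, 17), (22, 20), (22, 15), (22, 17), (23, 15), (17, 15),
      (22, 16), (22, 19), (23, 16), (23, 17), (23, 20), (23, 21), (22, 21), (23, 22), (15, 16), (15, 20), (16, 17)],
      commPair chevD4 auxD4 q.1 q.2 = true ∨ commPair chevD4 auxD4 q.2 q.1 = true := by decide +kernel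
  have cc : ∀ r s, (r, s) ∈ [(21, 16), (21, 20), (20, 17), (21, 17), (22, 20), (22, 15), (22, 17), (23, 15), (17, 15),
      (22, 16), (22, 19), (23, 16), (23, 17), (23, 20), (23, 21), (22, 21), (23, 22), (15, 16), (15, 20), (16, 17)] →
      ∀ x y : K, Commute (xG g r x) (xG g s y) := fun r s hm x y => by
    rcases cps _ hm with e | e
    · exact cp r s e x y
    · exact (cp s r e y x).symm
  -- conjugating by the fixed fundamental root element
  have c1 : xG g 14 1 * xG g 18 a * (xG g 14 (1 : K))⁻¹ = xG g 18 a * xG g 19 a := by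
    rw [xG_inv, mul_assoc, sw 14 18 (by simp) _ _ t1, ← mul_assoc, ← mul_assoc, xG_add]
    simp [xG_zero]
  have c2 : xG g 14 1 * xG g 13 b * (xG g 14 (1 : K))⁻¹ = xG g 13 b * xG g 16 (-b) := by
    rw [xG_inv, mul_assoc, sw 14 13 (by simp) _ _ t2, ← mul_assoc, ← mul_assoc, xG_add]
    simp [xG_zero]
  have c3 : xG g 14 1 * xG g 12 c * (xG g 14 (1 : K))⁻¹ = xG g 12 c * xG g 15 (-c) := by
    rw [xG_inv, mul_assoc, sw 14 12 (by simp) _ _ t3, ← mul_assoc, ← mul_assoc, xG_add]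
    simp [xG_zero]
  set EA := xG g 18 a * xG g 13 b * xG g 12 c with hEAdef
  set EB := xG g 19 a * xG g 16 (-b) * xG g 15 (-c) with hEBdef
  set EO := xG g 17 (b * c) * xG g 20 (-(c * a)) * xG g 21 (-(a * b)) with hEOdef
  have hY : xG g 14 1 * EA * (xG g 14 (1 : K))⁻¹ = EA * EB * EO * (xG g 22 (a * b * c) * xG g 23 (2 * (a * b * c))) := by
    have s1 := sw 13 19 (by simp) _ _ t4 b a
    have s2 := sw 12 21 (by simp) _ _ t7 c (-(a * b))
    have s3 := sw 12 16 (by simp) _ _ t6 c (-b)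
    have s4 := sw 12 19 (by simp) _ _ t5 c a
    have s5 := sw 16 20 (by simp) _ _ t8 (-b) (-(c * a))
    have s6 := sw 15 21 (by simp) _ _ t9 (-c) (-(a * b))
    have e1 : xG g 14 1 * EA * (xG g 14 (1 : K))⁻¹ =
        xG g 18 a * (xG g 19 a * xG g 13 b) * (xG g 16 (-b) * xG g 12 c) * xG g 15 (-c) := by
      rw [hEAdef, show xG g 14 1 * (xG g 18 a * xG g 13 b * xG g 12 c) * (xG g 14 (1 : K))⁻¹ =
        (xG g 14 1 * xG g 18 a * (xG g 14 1)⁻¹) * (xG g 14 1 * xG g 13 b * (xG g 14 1)⁻¹) *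
          (xG g 14 1 * xG g 12 c * (xG g 14 1)⁻¹) by group, c1, c2, c3]
      group
    rw [e1, s1]
    simp only [Int.cast_one, Int.cast_neg, one_mul, neg_mul, mul_neg, neg_neg] at s1 s2 s3 s4 s5 s6 ⊢
    rw [show -(b * a) = -(a * b) by ring]
    calc xG g 18 a * (xG g 13 b * xG g 19 a * xG g 21 (-(a * b))) * (xG g 16 (-b) * xG g 12 c) * xG g 15 (-c)
        = xG g 18 a * xG g 13 b * xG g 19 a * (xG g 21 (-(a * b)) * xG g 16 (-b)) * xG g 12 c * xG g 15 (-c) := by
          group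
      _ = xG g 18 a * xG g 13 b * xG g 19 a * xG g 16 (-b) * (xG g 21 (-(a * b)) * xG g 12 c) * xG g 15 (-c) := by
          rw [(cc 21 16 (by simp) _ _).eq]; group
      _ = xG g 18 a * xG g 13 b * xG g 19 a * (xG g 16 (-b) * xG g 12 c) *
            xG g 21 (-(a * b)) * xG g 22 (a * b * c) * xG g 15 (-c) := by
          rw [s2, show c * (a * b) = a * b * c by ring]; group
      _ = xG g 18 a * xG g 13 b * (xG g 19 a * xG g 12 c) * xG g 16 (-b) * xG g 17 (b * c) *
            xG g 21 (-(a * b)) * (xG g 22 (a * b * c) * xG g 15 (-c)) := by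
          rw [s3, show c * b = b * c by ring]; group
      _ = xG g 18 a * xG g 13 b * xG g 12 c * xG g 19 a * (xG g 20 (-(c * a)) * xG g 16 (-b)) * xG g 17 (b * c) *
            (xG g 21 (-(a * b)) * xG g 15 (-c)) * xG g 22 (a * b * c) := by
          rw [s4, (cc 22 15 (by simp) _ _).eq]; group
      _ = EA * xG g 19 a * xG g 16 (-b) * xG g 20 (-(c * a)) * (xG g 23 (a * b * c) * xG g 17 (b * c)) *
            xG g 15 (-c) * xG g 21 (-(a * b)) * xG g 23 (a * b * c) * xG g 22 (a * b * c) := by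
          rw [s5, s6, show b * (c * a) = a * b * c by ring, show c * (a * b) = a * b * c by ring, hEAdef]; group
      _ = EA * xG g 19 a * xG g 16 (-b) * (xG g 20 (-(c * a)) * xG g 17 (b * c)) * (xG g 23 (a * b * c) *
            xG g 15 (-c)) * xG g 21 (-(a * b)) * xG g 23 (a * b * c) * xG g 22 (a * b * c) := by
          rw [(cc 23 17 (by simp) _ _).eq]; group
      _ = EA * xG g 19 a * xG g 16 (-b) * xG g 17 (b * c) * (xG g 20 (-(c * a)) * xG g 15 (-c)) *
            (xG g 23 (a * b * c) * xG g 21 (-(a * b))) * xG g 23 (a * b * c) * xG g 22 (a * b * c) := by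
          rw [(cc 20 17 (by simp) _ _).eq, (cc 23 15 (by simp) _ _).eq]; group
      _ = EA * xG g 19 a * xG g 16 (-b) * (xG g 17 (b * c) * xG g 15 (-c)) * xG g 20 (-(c * a)) *
            xG g 21 (-(a * b)) * (xG g 23 (a * b * c) * xG g 23 (a * b * c) * xG g 22 (a * b * c)) := by
          rw [(cc 23 21 (by simp) _ _).eq, ← (cc 15 20 (by simp) _ _).eq]; group
      _ = _ := by
          rw [(cc 17 15 (by simp) _ _).eq, xG_add, (cc 23 22 (by simp) _ _).eq, ← two_mul, hEBdef, hEOdef]; group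
  have hEA' : EA ∈ H := by
    have : orbE g σ orbA t = EA := by simp [orbA, orbE, EA, a, b, c, mul_assoc]
    rw [← this]; exact hEA
  have hEB' : EB ∈ H := by
    have : orbE g σ orbB t = EB := by simp [orbB, orbE, EB, a, b, c, mul_assoc]
    rw [← this]; exact hEB
  have hN : σ (a * b * c) = a * b * c := by
    simp only [a, b, c, map_mul, h3]; ring
  have hEO : orbE g σ data.O (σ t * σ (σ t)) = EO := by
    simp [data, orbE, EO, a, b, c, map_mul, h3, mul_assoc, mul_comm]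
  rw [hEO]
  have h14 := hfixed 14 (by simp) 1 (map_one σ)
  have hYH := mul_mem (mul_mem h14 hEA') (inv_mem h14)
  rw [hY] at hYH
  have h22 := mul_mem (hfixed 22 (by simp) _ hN) (hfixed 23 (by simp) (2 * (a * b * c)) (by rw [map_mul, map_ofNat, hN]))
  rw [show EO = (EA * EB)⁻¹ * (EA * EB * EO * (xG g 22 (a * b * c) * xG g 23 (2 * (a * b * c)))) *
    (xG g 22 (a * b * c) * xG g 23 (2 * (a * b * c)))⁻¹ by group]
  exact mul_mem (mul_mem (inv_mem (mul_mem hEA' hEB')) hYH) (inv_mem h22)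

/-- **maximality** -/
theorem maximal [Fintype K] (p : ℕ) [Fact p.Prime] [CharP K p] (a : ℕ) (ha : 1 ≤ a)
    (hK : Fintype.card K = (p ^ a) ^ 3) (M : Subgroup (GL chevD4.Idx K))
    (hM : ∀ g : GL chevD4.Idx K, g ∈ M ↔ g ∈ twistedD4 K (p ^ a) ∧ ∀ i j : chevD4.Idx,
      ((g : Matrix chevD4.Idx chevD4.Idx K) i j) ^ (p ^ a) = (g : Matrix chevD4.Idx chevD4.Idx K) i j) :
    M ≠ twistedD4 K (p ^ a) ∧
      ∀ H : Subgroup (GL chevD4.Idx K), M ≤ H → H ≤ twistedD4 K (p ^ a) → H = M ∨ H = twistedD4 K (p ^ a) := by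
  classical
  have h := stdD4
  have g := h.good
  set σ : K →+* K := iterateFrobenius K p a with hσdef
  have hσ : ∀ t : K, σ t = t ^ p ^ a := fun t => iterateFrobenius_def p a t
  have hG : Graph (D43.tw σ) symD4a.e σ 3 :=
    ⟨fun r _ t => rfl, fun t => by simpa using D43.invol hσ hK t⟩
  have htw := D43.twisted_eq_fix hσ hK
  have hfix : ∀ y : GL chevD4.Idx K, sG σ y = y ↔
      ∀ i j, ((y : Matrix chevD4.Idx chevD4.Idx K) i j) ^ (p ^ a) =
        (y : Matrix chevD4.Idx chevD4.Idx K) i j := by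
    intro y
    constructor
    · intro e i j
      rw [← hσ]
      exact congrFun (congrFun (congrArg (fun z : GL chevD4.Idx K => (z : Matrix chevD4.Idx chevD4.Idx K)) e) i) j
    · intro e
      apply Units.ext
      ext i j
      show σ ((y : Matrix chevD4.Idx chevD4.Idx K) i j) = _
      rw [hσ, e]
  have h3 : ∀ x, σ (σ (σ x)) = x := D43.invol hσ hK
  have hproper : ∃ x, σ x ≠ x := by
    by_contra hcon
    push Not at hcon
    have hq := D43.two_le hK
    have h1 := card_pow_fixed (F := K) (q := p ^ a) three_ne_zero hq hK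
    have h2 : Nat.card {t : K // t ^ (p ^ a) = t} = Nat.card K :=
      Nat.card_congr (Equiv.subtypeUnivEquiv fun t => by rw [← hσ, hcon])
    rw [h1, Nat.card_eq_fintype_card, hK] at h2
    have := Nat.lt_of_lt_of_le (show p ^ a < (p ^ a) ^ 2 by nlinarith) (Nat.pow_le_pow_right (by omega) (show 2 ≤ 3 by omega))
    omega
  refine ⟨fun e => ?_, fun H hMH hHG => ?_⟩
  · obtain ⟨x, hx⟩ := hproper
    refine hx ?_
    have hw := D43.word3p (q := p ^ a) hσ x
    rw [← e] at hw
    have hs := (hfix _).2 ((hM _).1 hw).2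
    have key : d4p1 = chevD4.simple 0 ∧ (d4p3 ∈ chevD4.posRoots ∧ d4p3 ≠ chevD4.simple 0) ∧
        d4p4 ∈ chevD4.posRoots ∧ d4p4 ≠ chevD4.simple 0 := by decide +kernel
    obtain ⟨k1, ⟨k2, k3⟩, k4, k5⟩ := key
    rw [k1, mul_assoc] at hs
    exact marked_param h (i := 0) (by decide +kernel)
      (mul_mem (xG_mem_UP g (P := posBut chevD4 0) ⟨upList_posRoots.pos _ k2, k3⟩ _)
        (xG_mem_UP g (P := posBut chevD4 0) ⟨upList_posRoots.pos _ k4, k5⟩ _)) hs
  have C : Ctx (D43.tw σ) symD4a.e σ 3 ftabD43 H :=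
    { G := hG
      tab := ftabD43_ok
      top := D43.top
      le := hHG.trans htw.le
      mem := fun y hy hy' => hMH ((hM y).2 ⟨htw ▸ hy, (hfix y).1 hy'⟩)
      sgn1 := sgn_fixed }
  by_cases honly : ∀ t, orbE g σ data.O t ∈ H → σ t = t
  · left
    refine le_antisymm (fun y hy => (hM y).2 ⟨hHG hy, (hfix y).1 ?_⟩) hMH
    exact all_rat (p := p) (hP := para) C data_ok (hilbert_three h3 hproper) honly hy
  right
  push Not at honly
  obtain ⟨t, ht, hne⟩ := honly
  obtain ⟨hO, hS, hA, -, hN, hOA, -, hON⟩ := orbs_ok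
  have hall : ∀ x, orbE g σ data.O x ∈ H := span_three h3 (fun _ _ ha hb => orbE_add_mem (h := h) hO ha hb)
    (fun _ => orbE_fixed_mem C hO) (fun _ _ ha => scale C hS ha) (quad hG h3 C) ht hne
  refine le_antisymm hHG ?_
  rw [twistedD4, genSubgroup_eq g, Subgroup.closure_le]
  rintro y ⟨w, hw, rfl⟩
  rcases hw with ⟨x, hx, r, hr, rfl⟩ | ⟨x, rs, hrs, rfl⟩
  · simp only [List.map_cons, List.map_nil, List.prod_cons, List.prod_nil, mul_one, SetLike.mem_coe]
    have : ∀ r ∈ [d4p2, d4m2],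
        r < chevD4.nroots ∧ foldD43.r r = r ∧ symD4a.e r = 1 := by decide +kernel
    obtain ⟨h1, h2, h3⟩ := this r hr
    have hx' : σ x = x := by rw [hσ]; exact hx
    exact C.mem _ (xG_fix hG h1 h2 h3 hx') (by rw [map_xG, hx'])
  · simp only [List.map_cons, List.map_nil, List.prod_cons, List.prod_nil, mul_one, SetLike.mem_coe]
    have hq : ∀ u : K, u ^ (p ^ a) ^ 2 = σ (σ u) := fun u => by rw [hσ, hσ, ← pow_mul u, sq]
    simp only [List.mem_cons, List.not_mem_nil, or_false] at hrs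
    rcases hrs with rfl | rfl
    · have := transfer C hOA hA (hall x)
      have e : d4p1 = 18 ∧ d4p3 = 13 ∧ d4p4 = 12 := by decide +kernel
      obtain ⟨e1, e2, e3⟩ := e
      rw [e1, e2, e3, hq, ← hσ]
      simpa [orbE, orbA] using this
    · have := transfer C hON hN (hall x)
      rw [hq, ← hσ]
      simpa [orbE, orbN] using this

end CfsgLib.Chev.TwSub.D4
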