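import Cfsg.Agent.Lib.Chev.TwSub.Main
import Cfsg.Agent.Lib.Chev.Twist.Fam.E6

/-!
Subfield points of the twisted groups of type E6: maximality.
-/

set_option autoImplicit false
set_option linter.style.haveILetI false
set_option maxRecDepth 100000

namespace CfsgLib.Chev.TwSub.E6

open Cfsg.Lie Matrix CfsgLib.Chev CfsgLib.KnownB.ChevField

/-- the tables -/
def data : TData where
  certs := [⟨36, [(1, [(44, 1)], 45, 0)]⟩,
  ⟨37, [(1, [(39, 1)], 40, 1)]⟩,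
  ⟨39, [(-1, [(46, 1)], 47, 1)]⟩,
  ⟨42, [(-1, [(39, 1)], 43, 0)]⟩,
  ⟨46, [(1, [(39, 1)], 47, 1)]⟩,
  ⟨56, [(1, [(44, 1)], 59, 0)]⟩,
  ⟨38, [(1, [(39, 1)], 41, 1)]⟩,
  ⟨40, [(-1, [(46, 1)], 48, 1)]⟩,
  ⟨43, [(-1, [(46, 1)], 50, 0)]⟩,
  ⟨47, [(1, [(44, 1)], 53, 0)]⟩,
  ⟨57, [(1, [(39, 1)], 58, 0)]⟩,
  ⟨41, [(-1, [(46, 1)], 49, 1)]⟩,
  ⟨44, [(-1, [(46, 1)], 51, 0)]⟩,
  ⟨48, [(-1, [(60, 1)], 66, 0)]⟩,
  ⟨50, [(-1, [(60, 1)], 68, 2)]⟩,
  ⟨58, [(1, [(46, 1)], 61, 0)]⟩,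
  ⟨45, [(-1, [(46, 1)], 52, 0)]⟩,
  ⟨49, [(-1, [(44, 1)], 55, 0)]⟩,
  ⟨51, [(-1, [(39, 1)], 53, 0)]⟩,
  ⟨59, [(1, [(46, 1)], 62, 0)]⟩,
  ⟨61, [(1, [(44, 1)], 67, 2)]⟩,
  ⟨52, [(-1, [(39, 1)], 54, 0)]⟩,
  ⟨53, [(1, [(60, 1)], 70, 1)]⟩,
  ⟨60, [(1, [(46, 1)], 63, 0)]⟩,
  ⟨62, [(1, [(39, 1)], 64, 0)]⟩,
  ⟨54, [(-1, [(37, 1), (42, 1)], 55, 0)]⟩,
  ⟨63, [(1, [(39, 1)], 65, 0)]⟩,
  ⟨64, [(1, [(37, 1), (42, 1)], 67, 2)]⟩,
  ⟨55, [(-1, [(36, 1), (56, 1)], 66, 0)]⟩,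
  ⟨65, [(1, [(44, 1)], 70, 1)]⟩,
  ⟨67, [(1, [(36, 1), (56, 1)], 68, 2)]⟩]
  late := [⟨69, [(-1, [(39, 1)], 70, 1)]⟩,
  ⟨70, [(1, [(46, 1)], 71, 1)]⟩]
  O := [(66, 1), (68, 1)]
  marks := [[(56, 1), (36, 1)], [(36, 1), (56, 1)], [(42, 1), (37, 1)], [(37, 1), (42, 1)], [(46, 1)], [(39, 1)]]
  shrink := [70, 69, 60]
  words := [[1, 2, 3, 1, 2, 1, 0], [2, 3, 1, 2, 1, 0], [3, 1, 2, 1, 0], [3, 2, 1, 0], [1, 2, 1, 0], [2, 1, 0],
    [1, 0], [0]]
  lev := [(39, 1)]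
  wit := [(56, 1), (36, 1)]

theorem data_ok : data.OK chevE6 auxE6 foldE62 symE6.e 2 where
  u := by decide +kernel
  lift := by decide +kernel
  long := Subfield.longFacts_of_check Subfield.long_E6
  facts := Subfield.topFacts_of_check (by decide +kernel)
  full := by decide +kernel
  θfix := by decide +kernel
  mark := by decide +kernel
  shrink := by decide +kernel
  stable := by decide +kernel
  refl := by decide +kernel
  comm := by decide +kernel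
  sym := by decide +kernel
  opp := by decide +kernel

theorem sgn_fixed : ∀ r < chevE6.nroots, foldE62.r r = r → symE6.e r = 1 := by decide +kernel

/-- the orbits of the generators with words reaching them -/
def targets : List (List (ℕ × ℤ) × List ℕ) :=
  [([(e6p1, 1), (e6p6, 1)], [2, 1, 2, 0, 1, 2, 3, 2]),
   ([(e6p3, 1), (e6p5, 1)], [3, 1, 2, 0, 1, 2, 3, 2]),
   ([(e6m1, 1), (e6m6, 1)], [3, 2, 1, 2, 0, 1, 2, 3, 2]),
   ([(e6m3, 1), (e6m5, 1)], [2, 3, 1, 2, 0, 1, 2, 3, 2])]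

theorem targets_ok : ∀ p ∈ targets, orbOK chevE6 auxE6 foldE62 symE6.e 2 p.1 = true ∧
    transferOK chevE6 auxE6 foldE62 data.O p.1 p.2 = true := by decide +kernel

theorem O_ok : orbOK chevE6 auxE6 foldE62 symE6.e 2 data.O = true ∧
    scaleOK chevE6 auxE6 foldE62 data.O = true := by decide +kernel

theorem para : Para chevE6 auxE6 := ⟨stdE6, by decide +kernel, by decide +kernel⟩

variable {K : Type*} [Field K]

/-- **maximality** -/
theorem maximal [Fintype K] (p : ℕ) [Fact p.Prime] [CharP K p] (a : ℕ) (ha : 1 ≤ a)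
    (hK : Fintype.card K = (p ^ a) ^ 2) (M : Subgroup (GL chevE6.Idx K))
    (hM : ∀ g : GL chevE6.Idx K, g ∈ M ↔ g ∈ twistedE6 K (p ^ a) ∧ ∀ i j : chevE6.Idx,
      ((g : Matrix chevE6.Idx chevE6.Idx K) i j) ^ (p ^ a) = (g : Matrix chevE6.Idx chevE6.Idx K) i j) :
    M ≠ twistedE6 K (p ^ a) ∧
      ∀ H : Subgroup (GL chevE6.Idx K), M ≤ H → H ≤ twistedE6 K (p ^ a) → H = M ∨ H = twistedE6 K (p ^ a) := by
  classical
  have h := stdE6
  have g := h.good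
  set σ : K →+* K := iterateFrobenius K p a with hσdef
  have hσ : ∀ t : K, σ t = t ^ p ^ a := fun t => iterateFrobenius_def p a t
  have hG : Graph (E62.tw σ) symE6.e σ 2 :=
    ⟨fun r _ t => rfl, fun t => by simpa using E62.invol hσ hK t⟩
  have htw := E62.twisted_eq_fix hσ hK
  have hfix : ∀ y : GL chevE6.Idx K, sG σ y = y ↔
      ∀ i j, ((y : Matrix chevE6.Idx chevE6.Idx K) i j) ^ (p ^ a) =
        (y : Matrix chevE6.Idx chevE6.Idx K) i j := by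
    intro y
    constructor
    · intro e i j
      rw [← hσ]
      exact congrFun (congrFun (congrArg (fun z : GL chevE6.Idx K => (z : Matrix chevE6.Idx chevE6.Idx K)) e) i) j
    · intro e
      apply Units.ext
      ext i j
      show σ ((y : Matrix chevE6.Idx chevE6.Idx K) i j) = _
      rw [hσ, e]
  have hinv : ∀ x, σ (σ x) = x := E62.invol hσ hK
  have hproper : ∃ x, σ x ≠ x := by
    by_contra hcon
    push Not at hcon
    have hq := E62.two_le hK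
    have h1 := card_pow_fixed (F := K) (q := p ^ a) two_ne_zero hq hK
    have h2 : Nat.card {t : K // t ^ (p ^ a) = t} = Nat.card K :=
      Nat.card_congr (Equiv.subtypeUnivEquiv fun t => by rw [← hσ, hcon])
    rw [h1, Nat.card_eq_fintype_card, hK] at h2
    nlinarith
  refine ⟨fun e => ?_, fun H hMH hHG => ?_⟩
  · obtain ⟨x, hx⟩ := hproper
    refine hx ?_
    have hw := E62.word2 (q := p ^ a) hσ (r := e6p1) (s := e6p6) (by simp) x
    rw [← e] at hw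
    have hs := (hfix _).2 ((hM _).1 hw).2
    have key : e6p1 = chevE6.simple 0 ∧ e6p6 ∈ chevE6.posRoots ∧ e6p6 ≠ chevE6.simple 0 := by decide +kernel
    obtain ⟨k1, k2, k3⟩ := key
    rw [k1] at hs
    exact marked_param h (i := 0) (by decide +kernel)
      (xG_mem_UP g (P := posBut chevE6 0) ⟨upList_posRoots.pos _ k2, k3⟩ _) hs
  have C : Ctx (E62.tw σ) symE6.e σ 2 ftabE62 H :=
    { G := hG
      tab := ftabE62_ok
      top := E62.top
      le := hHG.trans htw.le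
      mem := fun y hy hy' => hMH ((hM y).2 ⟨htw ▸ hy, (hfix y).1 hy'⟩)
      sgn1 := sgn_fixed }
  by_cases honly : ∀ t, orbE g σ data.O t ∈ H → σ t = t
  · left
    refine le_antisymm (fun y hy => (hM y).2 ⟨hHG hy, (hfix y).1 ?_⟩) hMH
    exact all_rat (p := p) (hP := para) C data_ok (hilbert_two hinv hproper) honly hy
  right
  push Not at honly
  obtain ⟨t, ht, hne⟩ := honly
  have hall : ∀ x, orbE g σ data.O x ∈ H := span_two hinv (fun _ _ ha hb => orbE_add_mem (h := h) O_ok.1 ha hb)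
    (fun _ => orbE_fixed_mem C O_ok.1) (fun _ _ ha => scale C O_ok.2 ha) ht hne
  have hgen : ∀ o l, (o, l) ∈ targets → ∀ x, orbE g σ o x ∈ H := fun o l hm x =>
    transfer C (targets_ok _ hm).2 (targets_ok _ hm).1 (hall x)
  refine le_antisymm hHG ?_
  rw [twistedE6, genSubgroup_eq g, Subgroup.closure_le]
  rintro y ⟨w, hw, rfl⟩
  rcases hw with ⟨x, hx, r, hr, rfl⟩ | ⟨x, rs, hrs, rfl⟩
  · simp only [List.map_cons, List.map_nil, List.prod_cons, List.prod_nil, mul_one, SetLike.mem_coe]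
    have : ∀ r ∈ [e6p2, e6m2, e6p4, e6m4],
        r < chevE6.nroots ∧ foldE62.r r = r ∧ symE6.e r = 1 := by decide +kernel
    obtain ⟨h1, h2, h3⟩ := this r hr
    have hx' : σ x = x := by rw [hσ]; exact hx
    exact C.mem _ (xG_fix hG h1 h2 h3 hx') (by rw [map_xG, hx'])
  · simp only [List.map_cons, List.map_nil, List.prod_cons, List.prod_nil, mul_one, SetLike.mem_coe]
    have : ∀ p ∈ [(e6p1, e6p6), (e6m1, e6m6), (e6p3, e6p5), (e6m3, e6m5)],
        ∃ q ∈ targets, q.1 = [(p.1, 1), (p.2, 1)] := by decide +kernel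
    obtain ⟨⟨o, l⟩, hq, rfl⟩ := this rs hrs
    have := hgen _ l hq x
    simpa [orbE, hσ] using this

end CfsgLib.Chev.TwSub.E6
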