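import Cfsg.Agent.Lib.Chev.TwSub.Param

/-!
An intermediate subgroup without further orbit elements consists of subfield points.
-/

set_option autoImplicit false
set_option linter.style.haveILetI false
set_option maxRecDepth 100000

namespace CfsgLib.Chev.TwSub

open Cfsg.Lie Matrix CfsgLib.Chev CfsgLib.KnownB.ChevField

variable {D : ChevalleyDatum} {A : Aux} {F : Type*} [Field F]

/-- the tables of one twisted type -/
structure TData where
  certs : List Cert
  late : List Cert
  O : List (ℕ × ℤ)
  marks : List (List (ℕ × ℤ))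
  shrink : List ℕ
  words : List (List ℕ)
  lev : List (ℕ × ℤ)
  wit : List (ℕ × ℤ)

variable (D A) in
/-- all checks of the tables -/
structure TData.OK (f : Fold) (sgn : ℕ → ℤ) (d : ℕ) (X : TData) : Prop where
  u : uCheck D A f sgn X.certs X.late d X.O = true
  lift : liftCheck D A f = true
  long : Subfield.LongFacts D A []
  facts : Subfield.TopFacts D A
  full : ∀ l < D.rank, 0 < A.a (Subfield.top D) l
  θfix : f.r (Subfield.top D) = Subfield.top D
  mark : markCheck D A f sgn X.marks = true
  shrink : shrinkBy D A f X.shrink (Subfield.topJ D A) = true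
  stable : ∀ j ∈ Subfield.topJ D A, f.p j ∈ Subfield.topJ D A
  refl : ∀ j ∈ Subfield.topJ D A, A.refl j (Subfield.top D) = Subfield.top D
  comm : commCheck D A f X.words = true
  sym : symCheck D A f = true
  opp : oppCheck D A f sgn X.lev X.wit = true

/-- **without further orbit elements only subfield points** -/
theorem all_rat [Fintype F] {p : ℕ} [Fact p.Prime] [CharP F p] {hP : Para D A} {f : Fold}
    {τ : Twist F hP.std f} {sgn : ℕ → ℤ} {σ : F →+* F} {d : ℕ} {T : List FState}
    {H : Subgroup (GL D.Idx F)} (C : Ctx τ sgn σ d T H) {X : TData} (hX : X.OK D A f sgn d)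
    (h90 : ∀ c, trSum σ d c = 0 → ∃ s, σ s - s = c)
    (honly : ∀ t, orbE hP.std.good σ X.O t ∈ H → σ t = t) {y : GL D.Idx F} (hy : y ∈ H) :
    sG σ y = y := by
  have R : RCtx hP τ sgn σ d T H :=
    { C := C
      L := hX.long
      U := fun y hy hyU => ufix (p := p) C hX.u hX.lift hX.long h90 honly hy hyU
      full := hX.full
      θfix := hX.θfix
      marks := ⟨_, hX.mark⟩ }
  have T : TopData R :=
    { fix := fun y hy hyP => shrink_fix R _ _ hX.shrink y hy hyP
      stable := hX.stable
      refl := hX.refl }
  exact all_fix (p := p) T hX.comm hX.sym hX.opp hX.facts hy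

/-- additive form of Hilbert's Theorem 90, degree two -/
theorem hilbert_two {σ : F →+* F} (h2 : ∀ x, σ (σ x) = x) (hne : ∃ x, σ x ≠ x) (c : F)
    (hc : trSum σ 2 c = 0) : ∃ s, σ s - s = c := by
  simp only [trSum, Finset.sum_range_succ, Finset.sum_range_zero, zero_add, Function.iterate_zero_apply,
    Function.iterate_one] at hc
  obtain ⟨w, hw⟩ : ∃ w, w + σ w ≠ 0 := by
    by_contra hcon
    push Not at hcon
    obtain ⟨x, hx⟩ := hne
    refine hx ?_
    have h1 := hcon 1
    rw [map_one] at h1
    linear_combination hcon x - x * h1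
  have hr : σ (w + σ w) = w + σ w := by rw [map_add, h2]; ring
  refine ⟨-(c * (w / (w + σ w))), ?_⟩
  rw [map_neg, map_mul, map_div₀, hr, show σ c = -c by linear_combination hc]
  field_simp
  ring

/-- additive form of Hilbert's Theorem 90, degree three -/
theorem hilbert_three {σ : F →+* F} (h3 : ∀ x, σ (σ (σ x)) = x) (hne : ∃ x, σ x ≠ x) (c : F)
    (hc : trSum σ 3 c = 0) : ∃ s, σ s - s = c := by
  simp only [trSum, Finset.sum_range_succ, Finset.sum_range_zero, zero_add, Function.iterate_zero_apply,
    Function.iterate_succ_apply'] at hc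
  obtain ⟨w, hw⟩ : ∃ w, w + σ w + σ (σ w) ≠ 0 := by
    by_contra hcon
    push Not at hcon
    obtain ⟨x, hx⟩ := hne
    refine hx ?_
    have h1 := hcon 1
    rw [map_one, map_one] at h1
    have h2 := hcon (x * x)
    rw [map_mul, map_mul] at h2
    have h3' : (x - σ x) * (x - σ x) = 0 := by
      have e : σ (σ x) = -x - σ x := by linear_combination hcon x
      rw [e] at h2
      linear_combination -h2 + (x * x + σ x * σ x) * h1
    exact (sub_eq_zero.1 (mul_self_eq_zero.1 h3')).symm
  have hr : σ (w + σ w + σ (σ w)) = w + σ w + σ (σ w) := by rw [map_add, map_add, h3]; ring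
  refine ⟨-((c * σ w + (c + σ c) * σ (σ w)) / (w + σ w + σ (σ w))), ?_⟩
  rw [map_neg, map_div₀, hr, map_add, map_mul, map_mul, map_add, h3,
    show σ (σ c) = -c - σ c by linear_combination hc]
  field_simp
  ring

/-- an orbit element at a fundamental root with rational parameters only when fixed -/
theorem marked_param (h : Std D A) {σ : F →+* F} {i : ℕ} (hi : i < D.rank) {z : GL D.Idx F}
    (hz : z ∈ UP F h.good (posBut D i)) {t : F}
    (e : sG σ (xG h.good (D.simple i) t * z) = xG h.good (D.simple i) t * z) : σ t = t := by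
  have g := h.good
  rw [map_mul, map_xG] at e
  have h1 : xG g (D.simple i) (-t + σ t) ∈ UP F g (posBut D i) := by
    rw [show xG g (D.simple i) (-t + σ t) = z * (sG σ z)⁻¹ by
      rw [← xG_add, ← xG_inv, eq_mul_inv_iff_mul_eq, mul_assoc, e, inv_mul_cancel_left]]
    exact mul_mem hz (inv_mem (UP_map_le g σ _ ⟨z, hz, rfl⟩))
  linear_combination Subfield.posBut_coord h hi h1

end CfsgLib.Chev.TwSub
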